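import Groth.Agent.PicSmooth.Main
import Groth.Agent.PicZeroK.BaseChange
import Groth.Agent.AVPic.RelPicOfFppf
import Groth.Agent.FppfPic.ExtendRegular
import Groth.Agent.FibDim.BaseChange
import Groth.Agent.FibDim.Comp
import Mathlib.AlgebraicGeometry.Morphisms.LocalFlatDescent

/-!
The fppf relative Picard scheme of a proper relative curve is smooth.
-/

universe u

open CategoryTheory CategoryTheory.Limits AlgebraicGeometry

noncomputable section

set_option autoImplicit false
set_option linter.style.haveILetI false
set_option backward.isDefEq.respectTransparency false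
set_option backward.isDefEq.respectTransparency.types false
set_option maxHeartbeats 1000000

namespace Groth.Agent.PicSmooth

open Groth.Agent

theorem smooth_of_fppf {C S : Scheme.{u}} (f : C ⟶ S)
    [IsProper f] [Flat f] [LocallyOfFinitePresentation f] [GeometricallyReduced f] [GeometricallyConnected f]
    (hdim : ∀ s : S, topologicalKrullDim ↥(f.fiber s) = 1)
    {P : Over S} {φ : ∀ T : Over S, PicF.Cl (PicF.XT f T) → (T ⟶ P)}
    (hP : AbDual.IsRelPicK Scheme.fppfPrecoverage f P φ) [LocallyOfFinitePresentation P.hom] :
    Smooth P.hom := by
  haveI : Surjective f := inferInstance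
  let f' : pullback f f ⟶ C := pullback.snd f f
  let σ' : C ⟶ pullback f f := pullback.diagonal f
  have hσ' : σ' ≫ f' = 𝟙 C := pullback.diagonal_snd f
  haveI : IsProper f' := MorphismProperty.pullback_snd _ _ inferInstance
  haveI : Flat f' := MorphismProperty.pullback_snd _ _ inferInstance
  haveI : LocallyOfFinitePresentation f' := MorphismProperty.pullback_snd _ _ inferInstance
  haveI : GeometricallyReduced f' := MorphismProperty.pullback_snd _ _ inferInstance
  haveI : GeometricallyConnected f' := MorphismProperty.pullback_snd _ _ inferInstance
  haveI : Surjective f' := MorphismProperty.pullback_snd _ _ inferInstance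
  have ha : ∀ (T : Over C) (U : T.left.Opens), IsIso ((PicF.XTproj f' T).app U) := fun T U => by
    haveI : IsProper (pullback.snd f' T.hom) := MorphismProperty.pullback_snd _ _ inferInstance
    haveI : Flat (pullback.snd f' T.hom) := MorphismProperty.pullback_snd _ _ inferInstance
    haveI : Surjective (pullback.snd f' T.hom) := MorphismProperty.pullback_snd _ _ inferInstance
    haveI : LocallyOfFinitePresentation (pullback.snd f' T.hom) := MorphismProperty.pullback_snd _ _ inferInstance
    exact (ConcreteCategory.isIso_iff_bijective _).2
      (GammaDescent.bijective_app (pullback.snd f' T.hom) ((H23.RigidGamma.constFibres f').baseChange T.hom) U)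
  have hR := AVPic.isRelPic_of_fppf f' σ' hσ' ha (PicZeroK.baseChange f f P φ hP)
  haveI : LocallyOfFinitePresentation (Over.mk (pullback.snd P.hom f)).hom :=
    MorphismProperty.pullback_snd P.hom f inferInstance
  have hd : ∀ x : C, topologicalKrullDim ↥(f'.fiber x) ≤ (1 : ℕ) := fun x =>
    (FibDim.topologicalKrullDim_fiber_le_iff f' x 1).2 fun z _ =>
      (FibDim.rd_baseChange_le (IsPullback.of_hasPullback f f) z).trans
        ((FibDim.topologicalKrullDim_fiber_le_iff f (f (pullback.fst f f z)) 1).1
          (le_of_eq (by rw [hdim]; rfl)) _ rfl)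
  exact MorphismProperty.of_pullback_snd_of_descendsAlong (P := @Smooth) (Q := @Surjective ⊓ @Flat ⊓ @QuasiCompact)
    (f := P.hom) (g := f) ⟨⟨inferInstance, inferInstance⟩, inferInstance⟩ (smooth hR hd)

end Groth.Agent.PicSmooth

end
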