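import Groth.Agent.PicLOFT.Main
import Groth.Agent.RelPicGrp.Lift
import Groth.Agent.PicH1Lib.Seq
import Groth.Agent.RelPicGrp.H2Lift
import Groth.Agent.PPSheaf.GrCoh
import Groth.Agent.FibVanQCohH4
import Groth.Agent.S1488
import Groth.Agent.S1489
import Groth.Agent.SrcDescent.SchemeSmooth
import Groth.Agent.MorLib.FormallyEtaleHom

/-!
The relative Picard scheme of a proper family of curves is smooth.
-/

universe u

open CategoryTheory CategoryTheory.Limits AlgebraicGeometry Opposite TopologicalSpace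

noncomputable section

set_option autoImplicit false
set_option linter.style.haveILetI false
set_option backward.isDefEq.respectTransparency false
set_option backward.isDefEq.respectTransparency.types false
set_option maxHeartbeats 1000000
set_option synthInstance.maxHeartbeats 400000

namespace Groth.Agent.PicSmooth

open Groth.Agent

/-- Invertible classes lift along a closed immersion of square zero when `H²` of quasi-coherent modules vanishes. -/
theorem exists_cl_lift {Y Z : Scheme.{u}} (i : Z ⟶ Y) [IsClosedImmersion i] (hI : i.ker * i.ker = ⊥)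
    (hv : ∀ M : Y.Modules, Coh.IsQCoh M → Subsingleton (Coh.HH Y M 2))
    (c₀ : PicF.Cl Z) (hc₀ : PicF.IsInvertibleCl c₀) :
    ∃ c, PicF.IsInvertibleCl c ∧ PicF.pullCl i c = c₀ := by
  let I := i.ker
  haveI : IsIso i.toImage := inferInstance
  let e : I.subscheme ⟶ Z := inv i.toImage
  haveI : Subsingleton (Coh.HH Y (ClSub.idealMod I) 2) := hv _ (PPSheaf.GrCoh.isQCoh_idealMod I)
  letI := H23.PicMul.law Y
  letI := H23.PicMul.law I.subscheme
  have hi := H23.PicMul.pullMul I.subschemeι
  obtain ⟨ε, δ₀, α, δ₁, -, -, -, -, -, hδ⟩ := PicH1.exists_exact I hI hi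
  obtain ⟨m, hm⟩ := hδ.le (x := (⟨PicF.pullCl e c₀, PicLoc.isInvertibleCl_pullCl e hc₀⟩ : PicLoc.PicSet I.subscheme))
    (MonoidHom.mem_ker.2 (Multiplicative.toAdd.injective (Subsingleton.elim _ _)))
  refine ⟨m.1, m.2, ?_⟩
  have h3 : PicF.pullCl I.subschemeι m.1 = PicF.pullCl e c₀ := congrArg Subtype.val hm
  have h4 := congrArg (PicF.pullCl i.toImage) h3
  rwa [← PicLoc.pullCl_comp, ← PicLoc.pullCl_comp, show i.toImage ≫ I.subschemeι = i from i.toImage_imageι,
    show i.toImage ≫ e = 𝟙 _ from IsIso.hom_inv_id _, PicLoc.pullCl_id] at h4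

variable {X S : Scheme.{u}} {f : X ⟶ S} {P : Over S} {φ : ∀ T : Over S, PicF.Cl (PicF.XT f T) → (T ⟶ P)}

/-- An affine scheme mapped to `P` etale by a class is formally smooth over a small affine open of the base. -/
theorem smooth_chart (hP : PicRel.IsRelPic f P φ) (V : S.Opens) (hV : IsAffineOpen V)
    (hvan : ∀ M : (f ⁻¹ᵁ V).toScheme.Modules, Coh.IsQCoh M → Subsingleton (Coh.HH (f ⁻¹ᵁ V).toScheme M 2))
    (T : Over S) (f0 : T.left ⟶ V.toScheme)
    (hf0 : f0 ≫ V.ι = T.hom) (c : PicF.Cl (PicF.XT f T)) (hc : PicF.IsInvertibleCl c)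
    [Etale (φ T c).left] [LocallyOfFinitePresentation f0] : Smooth f0 := by
  refine (Groth.Agent.S1488.result f0).mpr ⟨inferInstance, fun A _ I hI a b w => ?_⟩
  haveI : IsAffine V.toScheme := hV
  let TA : Over S := Over.mk (b ≫ V.ι)
  let q : Spec (CommRingCat.of (A ⧸ I)) ⟶ Spec (CommRingCat.of A) := Spec.map (CommRingCat.ofHom (Ideal.Quotient.mk I))
  haveI : IsClosedImmersion q := IsClosedImmersion.spec_of_surjective _ Ideal.Quotient.mk_surjective
  let T0 : Over S := Over.mk (q ≫ b ≫ V.ι)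
  let i0 : T0 ⟶ TA := Over.homMk q rfl
  let a0 : T0 ⟶ T := Over.homMk a (by
    show a ≫ T.hom = q ≫ b ≫ V.ι
    rw [← hf0, reassoc_of% w])
  let p : PicF.XT f TA ⟶ Spec (CommRingCat.of A) := pullback.snd f TA.hom
  have sq : IsPullback (PicF.XTmap f i0) (pullback.snd f T0.hom) p q := RelPicGrp.isPullback_XTmap i0
  haveI : IsClosedImmersion (PicF.XTmap f i0) := MorphismProperty.of_isPullback sq.flip ‹IsClosedImmersion q›
  have hker : (PicF.XTmap f i0).ker * (PicF.XTmap f i0).ker = ⊥ := by
    have he : (PicF.XTmap f i0).ker = (pullback.fst p q).ker := by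
      rw [← sq.isoPullback_hom_fst, Scheme.Hom.ker_comp_of_isIso]
    rw [he, Scheme.IdealSheafData.ker_fst_of_isClosedImmersion, ← FComplLib.comap_mul,
      PicH1.ker_Spec_mk_sq A I (by rw [← pow_two]; exact hI), Scheme.IdealSheafData.comap_bot]
  -- the vanishing on `X_A`
  have hv : ∀ M : (PicF.XT f TA).Modules, Coh.IsQCoh M → Subsingleton (Coh.HH (PicF.XT f TA) M 2) := by
    intro M hM
    have hr : Set.range (pullback.fst f TA.hom) ⊆ Set.range (f ⁻¹ᵁ V).ι := by
      rintro _ ⟨z, rfl⟩
      rw [Scheme.Opens.range_ι]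
      show f (pullback.fst f TA.hom z) ∈ V
      rw [← Scheme.Hom.comp_apply, pullback.condition, Scheme.Hom.comp_apply]
      exact (b _).2
    let k := IsOpenImmersion.lift (f ⁻¹ᵁ V).ι (pullback.fst f TA.hom) hr
    have sq1 : IsPullback k p (f ∣_ V) b := by
      refine IsPullback.of_right ?_ ?_ (isPullback_morphismRestrict f V).flip
      · rw [IsOpenImmersion.lift_fac]
        exact IsPullback.of_hasPullback f TA.hom
      · rw [← cancel_mono V.ι, Category.assoc, morphismRestrict_ι, IsOpenImmersion.lift_fac_assoc, Category.assoc]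
        exact pullback.condition
    haveI : IsAffineHom b := isAffineHom_of_isAffine _
    haveI : IsAffineHom k := MorphismProperty.of_isPullback sq1.flip ‹IsAffineHom b›
    obtain ⟨e⟩ := QCoh.HH_push_of_isAffineHom k hM 2
    haveI := hvan _ (QCoh.isQCoh_pushforward k hM)
    exact e.toEquiv.subsingleton
  obtain ⟨d, hd, hdc⟩ := exists_cl_lift (PicF.XTmap f i0) hker hv (PicF.pullCl (PicF.XTmap f a0) c)
    (RelPicGrp.isInvertibleCl_pull _ hc)
  have key : i0 ≫ φ TA d = a0 ≫ φ T c := by
    rw [← hP.natural _ _ i0 d hd, hdc, hP.natural _ _ a0 c hc]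
  obtain ⟨l, ⟨hl1, hl2⟩, -⟩ := ((Groth.Agent.S1489.result (φ T c).left).mp ‹Etale (φ T c).left›).2 A I hI a
    (φ TA d).left (congrArg CommaMorphism.left key)
  refine ⟨l, hl1, ?_⟩
  rw [← cancel_mono V.ι, Category.assoc, hf0, ← Over.w (φ T c), reassoc_of% hl2]
  exact Over.w (φ TA d)

/-- The representing scheme of a proper family with fibres of dimension at most one is smooth. -/
theorem smooth (hP : PicRel.IsRelPic f P φ) [IsProper f] [LocallyOfFinitePresentation P.hom]
    (hdim : ∀ s : S, topologicalKrullDim ↥(f.fiber s) ≤ (1 : ℕ)) : Smooth P.hom := by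
  obtain ⟨ι, U, hU, hc⟩ := hP.locallySurjective P (𝟙 P)
  choose c hci hcφ using hc
  choose i y hy using fun x : P.left => hU x
  choose V hsV hV hvan using fun s : S => FibVanQCohH4.exists_affine_nhd f s 1 (hdim s)
  let s : P.left → S := fun x => ((U (i x)).hom ≫ P.hom) (y x)
  let W : ∀ x : P.left, (U (i x)).left.Opens := fun x => ((U (i x)).hom ≫ P.hom) ⁻¹ᵁ V (s x)
  let g : ∀ x : P.left, (W x).toScheme ⟶ P.left := fun x => (W x).ι ≫ (U (i x)).hom
  have hg : ∀ x, Etale (g x) := fun x => by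
    haveI : Etale (U (i x)).hom := (U (i x)).prop
    exact MorphismProperty.comp_mem _ _ _ inferInstance ‹_›
  have hsm : ∀ x, Smooth (g x ≫ P.hom) := fun x => by
    let T : Over S := Over.mk (g x ≫ P.hom)
    let gW : T ⟶ PicRel.ovr P (U (i x)) := Over.homMk (W x).ι (Category.assoc _ _ _).symm
    let cW : PicF.Cl (PicF.XT f T) := PicF.pullCl (PicF.XTmap f gW) (c (i x))
    have hcW : φ T cW = gW ≫ PicRel.ovrHom P (U (i x)) := by
      rw [hP.natural _ _ gW _ (hci (i x)), hcφ (i x), Category.comp_id]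
    haveI : Etale (φ T cW).left := by
      rw [hcW]
      exact hg x
    have hsub : Set.range (g x ≫ P.hom) ⊆ Set.range (V (s x)).ι := by
      rintro _ ⟨z, rfl⟩
      rw [Scheme.Opens.range_ι]
      exact z.2
    let f0 := IsOpenImmersion.lift (V (s x)).ι (g x ≫ P.hom) hsub
    have hf0 : f0 ≫ (V (s x)).ι = g x ≫ P.hom := IsOpenImmersion.lift_fac _ _ _
    haveI := hg x
    haveI : LocallyOfFinitePresentation f0 := by
      haveI : LocallyOfFinitePresentation (f0 ≫ (V (s x)).ι) := by rw [hf0]; infer_instance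
      exact MorphismProperty.of_postcomp @LocallyOfFinitePresentation (W' := @IsOpenImmersion) f0 (V (s x)).ι
        inferInstance this
    haveI : Smooth f0 := smooth_chart hP (V (s x)) (hV (s x))
      (fun M hM => hvan (s x) _ (f ⁻¹ᵁ V (s x)).ι (Scheme.Opens.range_ι _) M hM 2 one_lt_two)
      T f0 hf0 cW (RelPicGrp.isInvertibleCl_pull _ (hci (i x)))
    rw [← hf0]
    infer_instance
  haveI : Etale (Sigma.desc g) := IsZariskiLocalAtSource.sigmaDesc (P := @Etale) hg
  haveI : Surjective (Sigma.desc g) := ⟨fun x => by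
    refine ⟨(Sigma.ι (fun x : P.left => (W x).toScheme) x) ⟨y x, hsV (s x)⟩, ?_⟩
    rw [← Scheme.Hom.comp_apply, Sigma.ι_desc]
    exact hy x⟩
  haveI : Smooth (Sigma.desc g ≫ P.hom) := by
    have h : Sigma.desc g ≫ P.hom = Sigma.desc fun x => g x ≫ P.hom := by ext x; simp
    rw [h]
    exact IsZariskiLocalAtSource.sigmaDesc (P := @Smooth) hsm
  exact SrcDescent.smooth_of_etale_comp (Sigma.desc g) P.hom ‹_›

end Groth.Agent.PicSmooth

end
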